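/-
Subgroups containing all even permutations of a set of points.
-/
import Cfsg.Agent.Lib.Known.SylowTwoMax
import Cfsg.Agent.Lib.Known.AltAut

set_option autoImplicit false

namespace CfsgLib.LocalEven.AltPMin

open Equiv Equiv.Perm CfsgLib.Known.AltAut

variable {α : Type*} [Fintype α] [DecidableEq α]

/-- `M` contains every even permutation moving only points of `U`. -/
def AltIn (M : Subgroup (Perm α)) (U : Finset α) : Prop :=
  ∀ g : Perm α, g.support ⊆ U → sign g = 1 → g ∈ M

theorem AltIn.mono {M : Subgroup (Perm α)} {U V : Finset α} (h : AltIn M U) (hV : V ⊆ U) : AltIn M V :=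
  fun g hg hs => h g (hg.trans hV) hs

theorem AltIn.image {M : Subgroup (Perm α)} {U : Finset α} (h : AltIn M U) {c : Perm α} (hc : c ∈ M) :
    AltIn M (U.image c) := by
  intro g hg hs
  have h1 : c⁻¹ * g * c ∈ M := h _ (fun x hx => by
    rw [show c⁻¹ * g * c = c⁻¹ * g * c⁻¹⁻¹ by rw [inv_inv], support_conj, Finset.mem_map] at hx
    obtain ⟨y, hy, rfl⟩ := hx
    obtain ⟨u, hu, rfl⟩ := Finset.mem_image.1 (hg hy)
    simpa using hu) (by rw [map_mul, map_mul, map_inv, hs, mul_one, inv_mul_cancel])
  have := mul_mem (mul_mem hc h1) (inv_mem hc)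
  rwa [show c * (c⁻¹ * g * c) * c⁻¹ = g by group] at this

theorem support_cyc_subset {a b c : α} : (cyc a b c).support ⊆ {a, b, c} := by
  intro x hx
  rw [mem_support] at hx
  by_contra h
  simp only [Finset.mem_insert, Finset.mem_singleton, not_or] at h
  exact hx (cyc_other h.1 h.2.1 h.2.2)

theorem sign_cyc {a b c : α} (hab : a ≠ b) (hbc : b ≠ c) : sign (cyc a b c) = 1 := by
  rw [cyc, map_mul, sign_swap hab, sign_swap hbc]; rfl

theorem AltIn.cyc_mem {M : Subgroup (Perm α)} {U : Finset α} (h : AltIn M U) {a b c : α}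
    (ha : a ∈ U) (hb : b ∈ U) (hc : c ∈ U) (hab : a ≠ b) (hbc : b ≠ c) : cyc a b c ∈ M := by
  refine h _ (support_cyc_subset.trans fun x hx => ?_) (sign_cyc hab hbc)
  simp only [Finset.mem_insert, Finset.mem_singleton] at hx
  rcases hx with rfl | rfl | rfl <;> assumption

/-- The three-cycles generate. -/
theorem altIn_of_cycles {M : Subgroup (Perm α)} {U : Finset α}
    (h : ∀ a b c, a ∈ U → b ∈ U → c ∈ U → a ≠ b → a ≠ c → b ≠ c → cyc a b c ∈ M) : AltIn M U := by
  intro g hg hs
  have hgU : ∀ x, g x ∈ U ↔ x ∈ U := by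
    intro x
    by_cases hx : g x = x
    · rw [hx]
    · exact iff_of_true (hg (mem_support.2 fun e => hx (g.injective e))) (hg (mem_support.2 hx))
  let g' : Perm {x // x ∈ U} := g.subtypePerm hgU
  have hg' : ofSubtype g' = g := ofSubtype_subtypePerm hgU fun x hx => hg (mem_support.2 hx)
  have hsg : sign g' = 1 := by rw [← sign_ofSubtype g', hg', hs]
  have hle : alternatingGroup {x // x ∈ U} ≤ M.comap ofSubtype := by
    rw [← closure_three_cycles_eq_alternating, Subgroup.closure_le]
    intro p hp
    obtain ⟨a, ha⟩ : ∃ a, p a ≠ a := by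
      obtain ⟨a, ha⟩ : p.support.Nonempty :=
        Finset.card_pos.1 (by rw [(hp : p.IsThreeCycle).card_support]; norm_num)
      exact ⟨a, mem_support.1 ha⟩
    obtain ⟨e1, e2, e3⟩ := eq_cyc hp ha
    show ofSubtype p ∈ M
    have h1 : ofSubtype p = cyc (a : α) (p a) (p (p a)) := by
      conv_lhs => rw [e1]
      rw [cyc, cyc, map_mul, ofSubtype_swap_eq, ofSubtype_swap_eq]
    rw [h1]
    exact h _ _ _ a.2 (p a).2 (p (p a)).2 (fun e => ha (Subtype.ext e).symm) (fun e => e3 (Subtype.ext e).symm)
      (fun e => ha (p.injective (Subtype.ext e)).symm)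
  have := hle (mem_alternatingGroup.2 hsg)
  rwa [Subgroup.mem_comap, hg'] at this

/-- Adjoining one point. -/
theorem AltIn.insert_point {M : Subgroup (Perm α)} {U : Finset α} (h : AltIn M U) {a u v : α}
    (ha : a ∈ U) (hu : u ∈ U) (hau : a ≠ u) (hv : v ∉ U) (hm : cyc a u v ∈ M) : AltIn M (insert v U) := by
  have hav : a ≠ v := fun e => hv (e ▸ ha)
  have huv : u ≠ v := fun e => hv (e ▸ hu)
  have key : ∀ p q, p ∈ U → q ∈ U → p ≠ q → cyc p q v ∈ M := by
    intro p q hp hq hpq
    set π := swap (swap a p u) q * swap a p with hπ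
    have hu' : swap a p u ≠ p := fun e => hau ((swap a p).injective ((swap_apply_left a p).trans e.symm))
    have hu'U : swap a p u ∈ U := by
      rcases eq_or_ne u p with rfl | hup
      · rw [swap_apply_right]; exact ha
      · rw [swap_apply_of_ne_of_ne hau.symm hup]; exact hu
    have πa : π a = p := by
      rw [hπ, Perm.mul_apply, swap_apply_left, swap_apply_of_ne_of_ne hu'.symm hpq]
    have πu : π u = q := by rw [hπ, Perm.mul_apply, swap_apply_left]
    have πout : ∀ x, x ∉ U → π x = x := by
      intro x hx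
      rw [hπ, Perm.mul_apply, swap_apply_of_ne_of_ne (fun e : x = a => hx (e ▸ ha)) (fun e : x = p => hx (e ▸ hp)),
        swap_apply_of_ne_of_ne (fun e : x = swap a p u => hx (by rw [e]; exact hu'U)) (fun e : x = q => hx (e ▸ hq))]
    have hsupp : π.support ⊆ U := fun x hx => by
      by_contra hxU
      exact mem_support.1 hx (πout x hxU)
    rcases Int.units_eq_one_or (sign π) with e | e
    · have := mul_mem (mul_mem (h π hsupp e) hm) (inv_mem (h π hsupp e))
      rwa [cyc_conj, πa, πu, πout v hv] at this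
    · have hs : sign (π * swap a u) = 1 := by rw [map_mul, e, sign_swap hau]; rfl
      have hm' : π * swap a u ∈ M := h _ (fun x hx => by
        by_contra hxU
        refine mem_support.1 hx ?_
        rw [Perm.mul_apply, swap_apply_of_ne_of_ne (fun e : x = a => hxU (e ▸ ha)) (fun e : x = u => hxU (e ▸ hu)),
          πout x hxU]) hs
      have := mul_mem (mul_mem hm' hm) (inv_mem hm')
      rw [cyc_conj, show (π * swap a u) a = q by rw [Perm.mul_apply π, swap_apply_left, πu],
        show (π * swap a u) u = p by rw [Perm.mul_apply π, swap_apply_right, πa],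
        show (π * swap a u) v = v by rw [Perm.mul_apply π, swap_apply_of_ne_of_ne hav.symm huv.symm, πout v hv]] at this
      have := inv_mem this
      rwa [cyc_inv hpq.symm (fun e : q = v => hv (e ▸ hq)) (fun e : p = v => hv (e ▸ hp))] at this
  refine altIn_of_cycles fun x y z hx hy hz hxy hxz hyz => ?_
  rw [Finset.mem_insert] at hx hy hz
  rcases hx with hx | hx
  · subst x
    have hy' := hy.resolve_left hxy.symm
    have hz' := hz.resolve_left hxz.symm
    rw [cyc_rot hxy hxz hyz]
    exact key y z hy' hz' hyz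
  rcases hy with hy | hy
  · subst y
    have hz' := hz.resolve_left hyz.symm
    rw [cyc_rot hxy hxz hyz, cyc_rot hyz hxy.symm hxz.symm]
    exact key z x hz' hx hxz.symm
  rcases hz with hz | hz
  · subst z
    exact key x y hx hy hxy
  · exact h.cyc_mem hx hy hz hxy hyz

/-- Two overlapping sets. -/
theorem AltIn.union {M : Subgroup (Perm α)} {U V : Finset α} (hU : AltIn M U) (hV : AltIn M V)
    (hU3 : 3 ≤ U.card) (hV3 : 3 ≤ V.card) {a : α} (haU : a ∈ U) (haV : a ∈ V) : AltIn M (U ∪ V) := by
  have one : ∀ W : Finset α, U ⊆ W → AltIn M W → ∀ v ∈ V, AltIn M (insert v W) := by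
    intro W hW hA v hv
    by_cases hvW : v ∈ W
    · rwa [Finset.insert_eq_self.2 hvW]
    have hav : a ≠ v := fun e => hvW (e ▸ hW haU)
    obtain ⟨w, hw, hwa, hwv⟩ : ∃ w ∈ V, w ≠ a ∧ w ≠ v := by
      obtain ⟨w, hw⟩ : ((V.erase a).erase v).Nonempty := by
        rw [← Finset.card_pos, Finset.card_erase_of_mem (Finset.mem_erase.2 ⟨hav.symm, hv⟩),
          Finset.card_erase_of_mem haV]
        omega
      rw [Finset.mem_erase, Finset.mem_erase] at hw
      exact ⟨w, hw.2.2, hw.2.1, hw.1⟩
    by_cases hwW : w ∈ W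
    · exact hA.insert_point (hW haU) hwW hwa.symm hvW (hV.cyc_mem haV hw hv hwa.symm hwv)
    obtain ⟨u, hu, hua, -⟩ : ∃ u ∈ U, u ≠ a ∧ True := by
      obtain ⟨u, hu⟩ : (U.erase a).Nonempty := by
        rw [← Finset.card_pos, Finset.card_erase_of_mem haU]; omega
      rw [Finset.mem_erase] at hu
      exact ⟨u, hu.2, hu.1, trivial⟩
    obtain ⟨u', hu', hu'a, hu'u⟩ : ∃ u' ∈ U, u' ≠ a ∧ u' ≠ u := by
      obtain ⟨u', hu'⟩ : ((U.erase a).erase u).Nonempty := by
        rw [← Finset.card_pos, Finset.card_erase_of_mem (Finset.mem_erase.2 ⟨hua, hu⟩),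
          Finset.card_erase_of_mem haU]
        omega
      rw [Finset.mem_erase, Finset.mem_erase] at hu'
      exact ⟨u', hu'.2.2, hu'.2.1, hu'.1⟩
    have hne : ∀ {x y}, x ∈ W → y ∉ W → x ≠ y := fun hx hy e => hy (e ▸ hx)
    set g := cyc a u u' with hg
    set h := cyc a v w with hh
    have hgM : g ∈ M := hU.cyc_mem haU hu hu' hua.symm hu'u.symm
    have hhM : h ∈ M := hV.cyc_mem haV hv hw hav hwv.symm
    have hga : g a = u := cyc_a hua.symm hu'a.symm
    have hha : h a = v := cyc_a hav hwa.symm
    have hone : ∀ x, g x ≠ x → h x ≠ x → x = a := by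
      intro x hx hx'
      have h1 := support_cyc_subset (mem_support.2 hx)
      have h2 := support_cyc_subset (mem_support.2 hx')
      simp only [Finset.mem_insert, Finset.mem_singleton] at h1 h2
      rcases h1 with rfl | rfl | rfl
      · rfl
      · rcases h2 with e | e | e
        · exact e
        · exact absurd e (hne (hW hu) hvW)
        · exact absurd e (hne (hW hu) hwW)
      · rcases h2 with e | e | e
        · exact e
        · exact absurd e (hne (hW hu') hvW)
        · exact absurd e (hne (hW hu') hwW)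
    have ht := CfsgLib.Known.isThreeCycle_commutator (g := g) (h := h) (a := a) (by rw [hga]; exact hua)
      (by rw [hha]; exact hav.symm) hone
    set k := g * h * g⁻¹ * h⁻¹ with hk
    have hkM : k ∈ M := mul_mem (mul_mem (mul_mem hgM hhM) (inv_mem hgM)) (inv_mem hhM)
    have hka : k a = u := by
      have hinv : h⁻¹ = cyc v a w := cyc_inv hav hwa.symm hwv.symm
      have hgw : g w = w := by
        by_contra e
        have h1 := support_cyc_subset (mem_support.2 e)
        simp only [Finset.mem_insert, Finset.mem_singleton] at h1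
        rcases h1 with e' | e' | e'
        · exact hwa e'
        · exact (hne (hW hu) hwW).symm e'
        · exact (hne (hW hu') hwW).symm e'
      show g (h (g⁻¹ (h⁻¹ a))) = u
      rw [hinv, cyc_b hwv.symm hwa.symm, show g⁻¹ w = w from (Equiv.symm_apply_eq g).2 hgw.symm, hh, cyc_c]
      exact hga
    have hku : k u = v := by
      show g (h (g⁻¹ (h⁻¹ u))) = v
      have hhu : h⁻¹ u = u :=
        (Equiv.symm_apply_eq h).2 (cyc_other hua (hne (hW hu) hvW) (hne (hW hu) hwW)).symm
      have hgu : g⁻¹ u = a := (Equiv.symm_apply_eq g).2 hga.symm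
      have hgv : g v = v := cyc_other hav.symm (hne (hW hu) hvW).symm (hne (hW hu') hvW).symm
      rw [hhu, hgu, hha, hgv]
    obtain ⟨e1, -, -⟩ := eq_cyc ht (p := a) (by rw [hka]; exact hua)
    refine hA.insert_point (hW haU) (hW hu) hua.symm hvW ?_
    rw [show cyc a u v = k by rw [e1, hka, hku]]
    exact hkM
  have all : ∀ S : Finset α, S ⊆ V → AltIn M (U ∪ S) := by
    intro S
    induction S using Finset.induction with
    | empty => intro _; rwa [Finset.union_empty]
    | insert x s hx ih =>
      intro hs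
      rw [Finset.union_insert]
      exact one _ Finset.subset_union_left (ih fun y hy => hs (Finset.mem_insert_of_mem hy)) x
        (hs (Finset.mem_insert_self x s))
  exact all V le_rfl

end CfsgLib.LocalEven.AltPMin
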