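/-
Overgroups of a Sylow 3-subgroup of an alternating group.
-/
import Cfsg.Agent.Lib.LocalEven.AltPMinimal.Cycles
import Cfsg.Agent.Lib.PGroup.Basic

set_option autoImplicit false

namespace CfsgLib.LocalEven.AltPMin

open Equiv Equiv.Perm CfsgLib.Known.AltAut

variable {α : Type*} [Fintype α] [DecidableEq α]

theorem exists_notMem_small {s : Finset α} (h : s.card < Fintype.card α) : ∃ x, x ∉ s :=
  CfsgLib.Known.exists_not_mem_finset s h

theorem exists_three_cycle_mover {a b : α} (hab : a ≠ b) (h3 : 3 ≤ Fintype.card α) :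
    ∃ c, c ≠ a ∧ c ≠ b ∧ sign (cyc a b c) = 1 ∧ cyc a b c a = b := by
  obtain ⟨c, hc⟩ := exists_notMem_small (s := {a, b}) (lt_of_le_of_lt Finset.card_le_two h3)
  simp only [Finset.mem_insert, Finset.mem_singleton, not_or] at hc
  exact ⟨c, hc.1, hc.2, sign_cyc hab (Ne.symm hc.2), cyc_a hab (Ne.symm hc.1)⟩

/-- A centralizer step: from the even permutations on `B` one gets one more point. -/
theorem grow {M : Subgroup (Perm α)} {B : Finset α} (hB : AltIn M B) (z : Perm α) (hz : ∀ x, z (z (z x)) = x)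
    (hfix : ∀ x, z x ≠ x) (hC : ∀ g, z * g = g * z → sign g = 1 → g ∈ M) (h4 : 4 ≤ B.card)
    (hcase : (∃ p ∈ B, z p ∉ B) ∨ ((∀ x, z x ∈ B ↔ x ∈ B) ∧ 7 ≤ B.card ∧ ∃ q, q ∉ B)) :
    ∃ v, v ∉ B ∧ AltIn M (insert v B) := by
  suffices h : ∃ c ∈ M, ∃ u ∈ B, c u ∉ B ∧ ∃ w ∈ B, c w ∈ B by
    obtain ⟨c, hc, u, hu, hcu, w, hw, hcw⟩ := h
    have hun := hB.union (hB.image hc) (by omega)
      (by rw [Finset.card_image_of_injective _ c.injective]; omega) hcw (Finset.mem_image_of_mem _ hw)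
    exact ⟨c u, hcu, hun.mono (Finset.insert_subset (Finset.mem_union_right _ (Finset.mem_image_of_mem _ hu))
      Finset.subset_union_left)⟩
  have hz2 : ∀ x, z (z x) ≠ x := fun x h => hfix x (by
    have := hz x
    rw [h] at this
    exact this)
  have hconj : ∀ a b c : α, z * cyc a b c * z⁻¹ = cyc (z a) (z b) (z c) := fun a b c => cyc_conj z
  rcases hcase with ⟨p, hp, hzp⟩ | ⟨hinv, h7, q, hq⟩
  · have d1 : p ≠ z p := (hfix p).symm
    have d2 : p ≠ z (z p) := (hz2 p).symm
    have d3 : z p ≠ z (z p) := fun e => d1 (z.injective e)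
    refine ⟨cyc p (z p) (z (z p)), hC _ ?_ (sign_cyc d1 d3), p, hp, by rwa [cyc_a d1 d2], ?_⟩
    · rw [← mul_inv_eq_iff_eq_mul, hconj, hz, ← cyc_rot d1 d2 d3]
    · obtain ⟨w, hw, hw'⟩ : ∃ w ∈ B, w ∉ ({p, z p, z (z p)} : Finset α) := by
        obtain ⟨w, hw⟩ : (B \ {p, z p, z (z p)}).Nonempty := by
          rw [← Finset.card_pos]
          have := Finset.le_card_sdiff ({p, z p, z (z p)} : Finset α) B
          have : ({p, z p, z (z p)} : Finset α).card ≤ 3 := Finset.card_le_three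
          omega
        exact ⟨w, (Finset.mem_sdiff.1 hw).1, (Finset.mem_sdiff.1 hw).2⟩
      simp only [Finset.mem_insert, Finset.mem_singleton, not_or] at hw'
      exact ⟨w, hw, by rwa [cyc_other hw'.1 hw'.2.1 hw'.2.2]⟩
  · obtain ⟨p, hp⟩ : B.Nonempty := Finset.card_pos.1 (by omega)
    obtain ⟨r, hr⟩ : (B \ {p, z p, z (z p)}).Nonempty := by
      rw [← Finset.card_pos]
      have := Finset.le_card_sdiff ({p, z p, z (z p)} : Finset α) B
      have : ({p, z p, z (z p)} : Finset α).card ≤ 3 := Finset.card_le_three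
      omega
    simp only [Finset.mem_sdiff, Finset.mem_insert, Finset.mem_singleton, not_or] at hr
    obtain ⟨hrB, rp, rzp, rzzp⟩ := hr
    have hpq : p ≠ q := fun e => hq (e ▸ hp)
    have hrq : r ≠ q := fun e => hq (e ▸ hrB)
    have hqr := hrq.symm
    set A : Finset α := {p, q, r} with hA
    have sep : ∀ y ∈ A, ∀ y' ∈ A, z y ≠ y' := by
      intro y hy y' hy' e
      simp only [hA, Finset.mem_insert, Finset.mem_singleton] at hy hy'
      rcases hy with rfl | rfl | rfl <;> rcases hy' with rfl | rfl | rfl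
      · exact hfix _ e
      · exact hq (e ▸ (hinv _).2 hp)
      · exact rzp e.symm
      · exact hq ((hinv _).1 (by rw [e]; exact hp))
      · exact hfix _ e
      · exact hq ((hinv _).1 (by rw [e]; exact hrB))
      · exact rzzp (by rw [← e, hz])
      · exact hq (e ▸ (hinv _).2 hrB)
      · exact hfix _ e
    set c₁ := cyc p q r with hc1
    set c₂ := cyc (z p) (z q) (z r) with hc2
    set c₃ := cyc (z (z p)) (z (z q)) (z (z r)) with hc3
    have s1 : ∀ x ∈ c₁.support, x ∈ A := fun x hx => support_cyc_subset hx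
    have s2 : ∀ x ∈ c₂.support, ∃ y ∈ A, z y = x := fun x hx => by
      have := support_cyc_subset hx
      simp only [Finset.mem_insert, Finset.mem_singleton] at this
      rcases this with rfl | rfl | rfl
      exacts [⟨p, by simp [hA], rfl⟩, ⟨q, by simp [hA], rfl⟩, ⟨r, by simp [hA], rfl⟩]
    have s3 : ∀ x ∈ c₃.support, ∃ y ∈ A, z (z y) = x := fun x hx => by
      have := support_cyc_subset hx
      simp only [Finset.mem_insert, Finset.mem_singleton] at this
      rcases this with rfl | rfl | rfl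
      exacts [⟨p, by simp [hA], rfl⟩, ⟨q, by simp [hA], rfl⟩, ⟨r, by simp [hA], rfl⟩]
    have d12 : Disjoint c₁ c₂ := by
      rw [disjoint_iff_disjoint_support, Finset.disjoint_left]
      intro x hx hx'
      obtain ⟨y, hy, e⟩ := s2 x hx'
      exact sep y hy x (s1 x hx) e
    have d13 : Disjoint c₁ c₃ := by
      rw [disjoint_iff_disjoint_support, Finset.disjoint_left]
      intro x hx hx'
      obtain ⟨y, hy, e⟩ := s3 x hx'
      exact sep x (s1 x hx) y hy (by rw [← e, hz])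
    have d23 : Disjoint c₂ c₃ := by
      rw [disjoint_iff_disjoint_support, Finset.disjoint_left]
      intro x hx hx'
      obtain ⟨y, hy, e⟩ := s2 x hx
      obtain ⟨y', hy', e'⟩ := s3 x hx'
      exact sep y' hy' y hy (z.injective (e'.trans e.symm))
    have e1 : z * c₁ * z⁻¹ = c₂ := hconj _ _ _
    have e2 : z * c₂ * z⁻¹ = c₃ := hconj _ _ _
    have e3 : z * c₃ * z⁻¹ = c₁ := by rw [hc3, hconj, hz, hz, hz]
    have hcent : z * (c₁ * c₂ * c₃) = c₁ * c₂ * c₃ * z := by
      rw [← mul_inv_eq_iff_eq_mul]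
      calc z * (c₁ * c₂ * c₃) * z⁻¹ = (z * c₁ * z⁻¹) * (z * c₂ * z⁻¹) * (z * c₃ * z⁻¹) := by group
        _ = c₂ * c₃ * c₁ := by rw [e1, e2, e3]
        _ = c₁ * (c₂ * c₃) := ((d12.commute.mul_right d13.commute).eq).symm
        _ = _ := (mul_assoc _ _ _).symm
    have hsign : sign (c₁ * c₂ * c₃) = 1 := by
      rw [map_mul, map_mul, hc1, hc2, hc3, sign_cyc hpq hqr, sign_cyc (fun e => hpq (z.injective e))
        (fun e => hqr (z.injective e)), sign_cyc (fun e => hpq (z.injective (z.injective e)))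
        (fun e => hqr (z.injective (z.injective e)))]
      simp
    have hc1p : c₁ p = q := cyc_a hpq (Ne.symm rp)
    have hfix23 : c₂ p = p ∧ c₃ p = p := by
      constructor
      · by_contra h
        obtain ⟨y, hy, e⟩ := s2 p (mem_support.2 h)
        exact sep y hy p (by simp [hA]) e
      · by_contra h
        obtain ⟨y, hy, e⟩ := s3 p (mem_support.2 h)
        exact sep p (by simp [hA]) y hy (by rw [← hz y, e])
    refine ⟨_, hC _ hcent hsign, p, hp, by rw [Perm.mul_apply, Perm.mul_apply, hfix23.2, hfix23.1, hc1p]; exact hq, ?_⟩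
    obtain ⟨w, hw⟩ : (B \ {p, z p, z (z p), r, z r, z (z r)}).Nonempty := by
      rw [← Finset.card_pos]
      have := Finset.le_card_sdiff ({p, z p, z (z p), r, z r, z (z r)} : Finset α) B
      have : ({p, z p, z (z p), r, z r, z (z r)} : Finset α).card ≤ 6 := Finset.card_le_six
      omega
    simp only [Finset.mem_sdiff, Finset.mem_insert, Finset.mem_singleton, not_or] at hw
    obtain ⟨hwB, w1, w2, w3, w4, w5, w6⟩ := hw
    refine ⟨w, hwB, ?_⟩
    have wq : w ≠ q := fun e => hq (e ▸ hwB)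
    have wzq : w ≠ z q := fun e => hq ((hinv q).1 (e ▸ hwB))
    have wzzq : w ≠ z (z q) := fun e => hq ((hinv q).1 ((hinv _).1 (e ▸ hwB)))
    rw [Perm.mul_apply, Perm.mul_apply, hc3, cyc_other w3 wzzq w6, hc2, cyc_other w2 wzq w5, hc1,
      cyc_other w1 wq w4]
    exact hwB

section

variable (T : Subgroup (Perm α))

open scoped Classical in
/-- The orbit of a point as a finset. -/
noncomputable def orb (x : α) : Finset α := Finset.univ.filter fun y => ∃ g ∈ T, g x = y

variable {T}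

theorem mem_orb {x y : α} : y ∈ orb T x ↔ ∃ g ∈ T, g x = y := by
  classical
  simp [orb]

theorem self_mem_orb (x : α) : x ∈ orb T x := mem_orb.2 ⟨1, one_mem T, rfl⟩

theorem orb_invariant (x : α) : ∀ g ∈ T, ∀ y, g y ∈ orb T x ↔ y ∈ orb T x := by
  intro g hg y
  constructor
  · intro h
    obtain ⟨h', hh, e⟩ := mem_orb.1 h
    exact mem_orb.2 ⟨g⁻¹ * h', mul_mem (inv_mem hg) hh, by rw [Perm.mul_apply, e]; simp⟩
  · intro h
    obtain ⟨h', hh, rfl⟩ := mem_orb.1 h
    exact mem_orb.2 ⟨g * h', mul_mem hg hh, rfl⟩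

theorem orb_disjoint {x y : α} (h : y ∉ orb T x) : _root_.Disjoint (orb T x) (orb T y) := by
  rw [Finset.disjoint_left]
  intro w hw hw'
  obtain ⟨g, hg, e⟩ := mem_orb.1 hw'
  exact h ((orb_invariant x g hg y).1 (e ▸ hw))

theorem orb_card (hT : IsPGroup 3 T) (x : α) : ∃ a, (orb T x).card = 3 ^ a := by
  classical
  haveI : Fact (Nat.Prime 3) := ⟨Nat.prime_three⟩
  obtain ⟨a, ha⟩ := hT.card_orbit x
  refine ⟨a, ?_⟩
  rw [← ha, ← Nat.card_eq_finsetCard]
  refine Nat.card_congr (Equiv.subtypeEquivRight fun y => ?_)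
  rw [mem_orb]
  exact ⟨fun ⟨g, hg, e⟩ => ⟨⟨g, hg⟩, e⟩, fun ⟨g, e⟩ => ⟨g, g.2, e⟩⟩

end

/-- A central element of order three moving exactly the points of an orbit. -/
theorem exists_central {T : Subgroup (Perm α)} (hT : IsPGroup 3 T)
    (hmax : ∀ R : Subgroup (Perm α), (∀ g ∈ R, sign g = 1) → IsPGroup 3 R → T ≤ R → R = T) (hev : ∀ g ∈ T, sign g = 1)
    (x : α) (hx : 2 ≤ (orb T x).card) :
    ∃ z ∈ T, (∀ g ∈ T, z * g = g * z) ∧ z ^ 3 = 1 ∧ (∀ y ∈ orb T x, z y ≠ y) ∧ ∀ y, y ∉ orb T x → z y = y := by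
  classical
  haveI : Fact (Nat.Prime 3) := ⟨Nat.prime_three⟩
  set S := orb T x with hS
  let r : T →* Perm α := (ofSubtype : Perm {y // y ∈ S} →* Perm α).comp
    (MonoidHom.mk' (fun g => (g : Perm α).subtypePerm (fun y => orb_invariant x g g.2 y)) (fun _ _ => rfl))
  have hr_mem : ∀ (g : T) y, y ∈ S → r g y = (g : Perm α) y := fun g y hy => by
    show ofSubtype ((g : Perm α).subtypePerm (fun y => orb_invariant x g g.2 y)) y = _
    rw [ofSubtype_apply_of_mem _ hy]; rfl
  have hr_out : ∀ (g : T) y, y ∉ S → r g y = y := fun g y hy =>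
    ofSubtype_apply_of_not_mem _ hy
  have hRp : IsPGroup 3 r.range := hT.of_surjective r.rangeRestrict r.rangeRestrict_surjective
  have hnorm : T ≤ Subgroup.normalizer (r.range : Set (Perm α)) := by
    have hc : ∀ (h g : T), (h : Perm α) * r g * (h : Perm α)⁻¹ = r (h * g * h⁻¹) := by
      intro h g
      rw [mul_inv_eq_iff_eq_mul]
      refine Equiv.ext fun y => ?_
      rw [Perm.mul_apply, Perm.mul_apply]
      by_cases hy : y ∈ S
      · rw [hr_mem g y hy, hr_mem _ _ ((orb_invariant x h h.2 y).2 hy)]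
        simp
      · rw [hr_out g y hy, hr_out _ _ (fun e => hy ((orb_invariant x h h.2 y).1 e))]
    intro h hh
    rw [Subgroup.mem_normalizer_iff]
    intro g
    constructor
    · rintro ⟨g, rfl⟩
      exact ⟨_, (hc ⟨h, hh⟩ g).symm⟩
    · rintro ⟨g', e⟩
      refine ⟨(⟨h, hh⟩ : T)⁻¹ * g' * (⟨h, hh⟩ : T)⁻¹⁻¹, ?_⟩
      rw [← hc, e]
      show h⁻¹ * (h * g * h⁻¹) * h⁻¹⁻¹ = g
      group
  have hle : r.range ≤ T := by
    have hsup : IsPGroup 3 (T ⊔ r.range : Subgroup (Perm α)) := hT.to_sup_of_normal_right' hRp hnorm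
    have := hmax _ (fun g hg => ?_) hsup le_sup_left
    · exact le_of_le_of_eq le_sup_right this
    · have h1 : r.range ≤ alternatingGroup α := by
        rintro _ ⟨g, rfl⟩
        obtain ⟨k, hk⟩ := hRp ⟨r g, g, rfl⟩
        have h2 := congrArg (fun v : r.range => sign (v : Perm α)) hk
        simp only [SubmonoidClass.coe_pow, map_pow, OneMemClass.coe_one, map_one] at h2
        rcases Int.units_eq_one_or (sign (r g)) with e | e
        · exact mem_alternatingGroup.2 e
        · rw [e, Odd.neg_one_pow ((show Odd 3 by decide).pow)] at h2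
          exact absurd h2 (by decide)
      exact mem_alternatingGroup.1 (sup_le (fun g hg => mem_alternatingGroup.2 (hev g hg)) h1 hg)
  haveI : (r.range.subgroupOf T).Normal := Subgroup.normal_subgroupOf_of_le_normalizer hnorm
  haveI : Nontrivial (r.range.subgroupOf T) := by
    obtain ⟨y, hy, hyx⟩ := Finset.exists_mem_ne (show 1 < S.card by omega) x
    obtain ⟨g, hg, e⟩ := mem_orb.1 hy
    refine ⟨⟨⟨r ⟨g, hg⟩, hle ⟨_, rfl⟩⟩, ⟨_, rfl⟩⟩, 1, fun h => hyx ?_⟩
    have := congrArg (fun v : r.range.subgroupOf T => ((v : T) : Perm α) x) h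
    simp only at this
    rw [hr_mem _ x (self_mem_orb x)] at this
    rw [← e]; exact this
  obtain ⟨v, hv, hv1⟩ : ∃ v ∈ r.range.subgroupOf T ⊓ Subgroup.center T, v ≠ 1 := by
    have := CfsgLib.PGroup.inf_center_ne_bot hT (r.range.subgroupOf T) (Subgroup.nontrivial_iff_ne_bot _ |>.1 inferInstance)
    exact (Subgroup.ne_bot_iff_exists_ne_one.1 this).elim fun w hw => ⟨w, w.2, fun e => hw (Subtype.ext e)⟩
  obtain ⟨k, hk0, hk⟩ : ∃ k : ℕ, (v ^ k) ≠ 1 ∧ (v ^ k) ^ 3 = 1 := by
    obtain ⟨a, ha⟩ := IsPGroup.iff_orderOf.1 hT v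
    rcases Nat.eq_zero_or_pos a with rfl | hapos
    · exact absurd (orderOf_eq_one_iff.1 (by rw [ha, pow_zero])) hv1
    · refine ⟨3 ^ (a - 1), fun e => ?_, ?_⟩
      · have := orderOf_dvd_of_pow_eq_one e
        rw [ha, Nat.pow_dvd_pow_iff_le_right (by norm_num)] at this
        omega
      · rw [← pow_mul, ← pow_succ, Nat.sub_add_cancel hapos, ← ha, pow_orderOf_eq_one]
  obtain ⟨⟨g₀, hg₀⟩, hvc⟩ := pow_mem hv k
  set z : Perm α := ((v ^ k : T) : Perm α) with hzdef
  have hout : ∀ y, y ∉ S → z y = y := fun y hy => by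
    rw [show z = r g₀ from hg₀.symm]; exact hr_out _ _ hy
  have hcent : ∀ g ∈ T, z * g = g * z := fun g hg =>
    (congrArg Subtype.val (Subgroup.mem_center_iff.1 hvc ⟨g, hg⟩)).symm
  refine ⟨z, (v ^ k).2, hcent, ?_, fun y hy e => hk0 ?_, hout⟩
  · rw [hzdef, ← SubmonoidClass.coe_pow, hk]; rfl
  · refine Subtype.ext (Equiv.ext fun w => ?_)
    show z w = w
    by_cases hw : w ∈ S
    · obtain ⟨g, hg, rfl⟩ := mem_orb.1 hy
      obtain ⟨g', hg', rfl⟩ := mem_orb.1 hw
      have h1 : z x = x := g.injective (by rw [← Perm.mul_apply g z, ← hcent g hg, Perm.mul_apply, e])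
      rw [← Perm.mul_apply z g', hcent g' hg', Perm.mul_apply, h1]
    · exact hout w hw

end CfsgLib.LocalEven.AltPMin
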