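/-
The degree of a 3-minimal alternating group.
-/
import Cfsg.Agent.Lib.LocalEven.AltPMinimal.Overgroups

set_option autoImplicit false

namespace CfsgLib.LocalEven.AltPMin

open Equiv Equiv.Perm CfsgLib.Known.AltAut

variable {α : Type*} [Fintype α] [DecidableEq α]

/-- The hypotheses on `T` and `M`. -/
structure Cfg (T M : Subgroup (Perm α)) : Prop where
  five : 5 ≤ Fintype.card α
  pgroup : IsPGroup 3 T
  even : ∀ g ∈ T, sign g = 1
  maximal : ∀ R : Subgroup (Perm α), (∀ g ∈ R, sign g = 1) → IsPGroup 3 R → T ≤ R → R = T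
  proper : ¬ alternatingGroup α ≤ M
  above : ∀ H : Subgroup (Perm α), T ≤ H → ¬ alternatingGroup α ≤ H → ∀ g ∈ H, sign g = 1 → g ∈ M

variable {T M : Subgroup (Perm α)}

theorem Cfg.not_altIn_univ (c : Cfg T M) : ¬ AltIn M Finset.univ := fun h =>
  c.proper fun g hg => h g (Finset.subset_univ _) (mem_alternatingGroup.1 hg)

theorem Cfg.mem (c : Cfg T M) {g : Perm α} (hg : g ∈ T) : g ∈ M := by
  refine c.above T le_rfl (fun h => ?_) g hg (c.even g hg)
  obtain ⟨a, b, hab⟩ := Fintype.exists_pair_of_one_lt_card (show 1 < Fintype.card α by have := c.five; omega)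
  obtain ⟨d, hd⟩ := exists_notMem_small (s := {a, b})
    (lt_of_le_of_lt Finset.card_le_two (show 2 < Fintype.card α by have := c.five; omega))
  obtain ⟨e, he⟩ := exists_notMem_small (s := {a, b, d})
    (lt_of_le_of_lt Finset.card_le_three (show 3 < Fintype.card α by have := c.five; omega))
  simp only [Finset.mem_insert, Finset.mem_singleton, not_or] at hd he
  have hm : swap a b * swap d e ∈ T := h (mem_alternatingGroup.2 (by
    rw [map_mul, sign_swap hab, sign_swap (Ne.symm he.2.2)]; rfl))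
  obtain ⟨k, hk⟩ := c.pgroup ⟨_, hm⟩
  have hk' : (swap a b * swap d e) ^ 3 ^ k = 1 := congrArg Subtype.val hk
  have h2 : (swap a b * swap d e) ^ 2 = 1 := by
    have hc : Commute (swap a b) (swap d e) := by
      refine (Perm.Disjoint.commute ?_)
      rw [disjoint_iff_disjoint_support, support_swap hab, support_swap (Ne.symm he.2.2), Finset.disjoint_left]
      intro x hx hx'
      simp only [Finset.mem_insert, Finset.mem_singleton] at hx hx'
      rcases hx with rfl | rfl <;> rcases hx' with rfl | rfl <;>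
        first
        | exact hd.1 rfl
        | exact hd.2 rfl
        | exact he.1 rfl
        | exact he.2.1 rfl
    rw [hc.mul_pow, pow_two, pow_two, swap_mul_self, swap_mul_self, one_mul]
  have h1 := pow_gcd_eq_one.2 ⟨h2, hk'⟩
  rw [Nat.Coprime.pow_right k (show Nat.Coprime 2 3 by norm_num), pow_one] at h1
  have h3 := Equiv.congr_fun h1 a
  rw [Perm.mul_apply, swap_apply_of_ne_of_ne (Ne.symm hd.1) (Ne.symm he.1), swap_apply_left] at h3
  exact hab h3.symm

theorem Cfg.altIn (c : Cfg T M) {S : Finset α} (hS : ∀ g ∈ T, ∀ y, g y ∈ S ↔ y ∈ S) (h1 : S.Nonempty)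
    (h2 : ∃ b, b ∉ S) : AltIn M S ∧ AltIn M Sᶜ := by
  obtain ⟨a, ha⟩ := h1
  obtain ⟨b, hb⟩ := h2
  let H : Subgroup (Perm α) :=
    { carrier := {g | ∀ y, g y ∈ S ↔ y ∈ S}
      one_mem' := fun y => Iff.rfl
      mul_mem' := fun {g h} hg hh y => by rw [Perm.mul_apply, hg, hh]
      inv_mem' := fun {g} hg y => by
        have := hg (g⁻¹ y)
        rw [show g (g⁻¹ y) = y from g.apply_symm_apply y] at this
        exact this.symm }
  have hH : ¬ alternatingGroup α ≤ H := by
    intro h
    obtain ⟨d, -, -, hs, hab⟩ := exists_three_cycle_mover (fun e : a = b => hb (e ▸ ha))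
      (by have := c.five; omega)
    have h3 := (h (mem_alternatingGroup.2 hs) a).2 ha
    rw [hab] at h3
    exact hb h3
  have key : ∀ U : Finset α, (∀ g : Perm α, g.support ⊆ U → ∀ y, g y ∈ S ↔ y ∈ S) → AltIn M U :=
    fun U hU g hg hs => c.above H (fun t ht => hS t ht) hH g (hU g hg) hs
  constructor
  · refine key S fun g hg y => ?_
    by_cases hy : g y = y
    · rw [hy]
    · exact iff_of_true (hg (mem_support.2 fun e => hy (g.injective e))) (hg (mem_support.2 hy))
  · refine key Sᶜ fun g hg y => ?_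
    by_cases hy : g y = y
    · rw [hy]
    · exact iff_of_false (Finset.mem_compl.1 (hg (mem_support.2 fun e => hy (g.injective e))))
        (Finset.mem_compl.1 (hg (mem_support.2 hy)))

theorem Cfg.altIn_centralizer (c : Cfg T M) {z : Perm α} (hfix : ∀ x, z x ≠ x) (hz : ∀ g ∈ T, z * g = g * z)
    (g : Perm α) (hg : z * g = g * z) (hs : sign g = 1) : g ∈ M := by
  refine c.above (Subgroup.centralizer {z}) (fun t ht => Subgroup.mem_centralizer_singleton_iff.2 (hz t ht).symm)
    (fun h => ?_) g (Subgroup.mem_centralizer_singleton_iff.2 hg.symm) hs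
  obtain ⟨p⟩ : Nonempty α := Fintype.card_pos_iff.1 (by have := c.five; omega)
  obtain ⟨q, hq⟩ := exists_notMem_small (s := {p, z p})
    (lt_of_le_of_lt Finset.card_le_two (show 2 < Fintype.card α by have := c.five; omega))
  obtain ⟨w, hw⟩ := exists_notMem_small (s := {p, z p, q})
    (lt_of_le_of_lt Finset.card_le_three (show 3 < Fintype.card α by have := c.five; omega))
  simp only [Finset.mem_insert, Finset.mem_singleton, not_or] at hq hw
  have hc := Subgroup.mem_centralizer_singleton_iff.1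
    (h (mem_alternatingGroup.2 (sign_cyc (Ne.symm hq.1) (Ne.symm hw.2.2))) : cyc p q w ∈ _)
  have e := Equiv.congr_fun hc p
  rw [Perm.mul_apply, Perm.mul_apply, cyc_other (hfix p) (Ne.symm hq.2) (Ne.symm hw.2.1),
    cyc_a (Ne.symm hq.1) (Ne.symm hw.1)] at e
  exact hq.1 (z.injective e).symm

/-- A small complement: two fixed points. -/
theorem orb_compl_ge (x : α) (h : ¬ 3 ≤ (orb T x)ᶜ.card) {y w : α} (hy : y ∉ orb T x) (hw : w ∉ orb T x)
    (hyw : w ∉ orb T y) : (orb T y).card = 1 ∧ (orb T w).card = 1 ∧ (orb T x).card + 2 = Fintype.card α := by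
  have hsub : orb T y ∪ orb T w ⊆ (orb T x)ᶜ := by
    intro v hv
    rw [Finset.mem_compl]
    rcases Finset.mem_union.1 hv with hv | hv
    · exact Finset.disjoint_left.1 (orb_disjoint hy).symm hv
    · exact Finset.disjoint_left.1 (orb_disjoint hw).symm hv
  have h1 := Finset.card_le_card hsub
  rw [Finset.card_union_of_disjoint (orb_disjoint hyw)] at h1
  have hy1 := Finset.card_pos.2 ⟨y, self_mem_orb (T := T) y⟩
  have hw1 := Finset.card_pos.2 ⟨w, self_mem_orb (T := T) w⟩
  have := Finset.card_compl (orb T x)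
  have := (orb T x).card_le_univ
  omega

/-- Three orbits. -/
theorem Cfg.false_of_three (c : Cfg T M) {x y w : α} (hy : y ∉ orb T x) (hw : w ∉ orb T x)
    (hyw : w ∉ orb T y) : False := by
  have five := c.five
  have dxy := orb_disjoint hy
  have dxw := orb_disjoint hw
  have dyw := orb_disjoint hyw
  have main : ∀ u v r : α, _root_.Disjoint (orb T u) (orb T v) → _root_.Disjoint (orb T u) (orb T r) →
      _root_.Disjoint (orb T v) (orb T r) → 3 ≤ (orb T u)ᶜ.card → 3 ≤ (orb T v)ᶜ.card → False := by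
    intro u v r duv dur dvr hu hv
    have ru : r ∈ (orb T u)ᶜ := Finset.mem_compl.2 (Finset.disjoint_right.1 dur (self_mem_orb r))
    have rv : r ∈ (orb T v)ᶜ := Finset.mem_compl.2 (Finset.disjoint_right.1 dvr (self_mem_orb r))
    have hU := (c.altIn (orb_invariant u) ⟨u, self_mem_orb u⟩ ⟨r, Finset.mem_compl.1 ru⟩).2
    have hV := (c.altIn (orb_invariant v) ⟨v, self_mem_orb v⟩ ⟨r, Finset.mem_compl.1 rv⟩).2
    refine c.not_altIn_univ ((hU.union hV hu hv ru rv).mono fun s _ => ?_)
    rw [Finset.mem_union, Finset.mem_compl, Finset.mem_compl]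
    by_cases hs : s ∈ orb T u
    · exact Or.inr (Finset.disjoint_left.1 duv hs)
    · exact Or.inl hs
  by_cases hx3 : 3 ≤ (orb T x)ᶜ.card
  · by_cases hy3 : 3 ≤ (orb T y)ᶜ.card
    · exact main x y w dxy dxw dyw hx3 hy3
    · by_cases hw3 : 3 ≤ (orb T w)ᶜ.card
      · exact main x w y dxw dxy dyw.symm hx3 hw3
      · have xny : x ∉ orb T y := Finset.disjoint_left.1 dxy (self_mem_orb x)
        have xnw : x ∉ orb T w := Finset.disjoint_left.1 dxw (self_mem_orb x)
        have ynw : y ∉ orb T w := Finset.disjoint_left.1 dyw (self_mem_orb y)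
        obtain ⟨h1, h2, h3⟩ := orb_compl_ge y hy3 xny hyw (fun e => hw e)
        obtain ⟨h4, h5, h6⟩ := orb_compl_ge w hw3 xnw ynw (fun e => hy e)
        omega
  · obtain ⟨h1, h2, h3⟩ := orb_compl_ge x hx3 hy hw hyw
    refine main y w x dyw dxy.symm dxw.symm ?_ ?_ <;> rw [Finset.card_compl] <;> omega

/-- Two orbits, one of them large. -/
theorem Cfg.false_of_two (c : Cfg T M) {x y : α} (hy : y ∉ orb T x) (hall : ∀ w, w ∈ orb T x ∨ w ∈ orb T y)
    (h9 : 7 ≤ (orb T x).card) (h3 : 3 ≤ (orb T y).card) : False := by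
  obtain ⟨z₁, hz₁T, hz₁, hz₁3, hz₁m, hz₁o⟩ := exists_central c.pgroup c.maximal c.even x (by omega)
  obtain ⟨z₂, hz₂T, hz₂, hz₂3, hz₂m, hz₂o⟩ := exists_central c.pgroup c.maximal c.even y (by omega)
  have dxy := orb_disjoint hy
  have hzc : ∀ g ∈ T, z₁ * z₂ * g = g * (z₁ * z₂) := fun g hg => by
    rw [mul_assoc, hz₂ g hg, ← mul_assoc, hz₁ g hg, mul_assoc]
  have hfix : ∀ v, (z₁ * z₂) v ≠ v := by
    intro v
    rw [Perm.mul_apply]
    rcases hall v with h | h
    · rw [hz₂o v (Finset.disjoint_left.1 dxy h)]; exact hz₁m v h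
    · rw [hz₁o _ (Finset.disjoint_right.1 dxy ((orb_invariant y z₂ hz₂T v).2 h))]; exact hz₂m v h
  have hz3 : (z₁ * z₂) ^ 3 = 1 := by
    rw [(show Commute z₁ z₂ from hz₁ z₂ hz₂T).mul_pow, hz₁3, hz₂3, one_mul]
  have hz : ∀ v, (z₁ * z₂) ((z₁ * z₂) ((z₁ * z₂) v)) = v := fun v => by
    have := Equiv.congr_fun hz3 v
    simpa [pow_succ, Perm.mul_apply] using this
  obtain ⟨hO, hOc⟩ := c.altIn (orb_invariant x) ⟨x, self_mem_orb x⟩ ⟨y, hy⟩
  obtain ⟨v, hv, hins⟩ := grow hO (z₁ * z₂) hz hfix (c.altIn_centralizer hfix hzc) (by omega)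
    (Or.inr ⟨fun v => orb_invariant x _ (mul_mem hz₁T hz₂T) v, h9, y, hy⟩)
  have hvy : v ∈ (orb T x)ᶜ := Finset.mem_compl.2 hv
  have h3' : 3 ≤ (orb T x)ᶜ.card := h3.trans (Finset.card_le_card fun u hu =>
    Finset.mem_compl.2 (Finset.disjoint_right.1 dxy hu))
  refine c.not_altIn_univ ((hins.union hOc ?_ h3' (Finset.mem_insert_self v _) hvy).mono fun u _ => ?_)
  · rw [Finset.card_insert_of_notMem hv]; omega
  · rw [Finset.mem_union, Finset.mem_insert, Finset.mem_compl]
    by_cases hu : u ∈ orb T x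
    · exact Or.inl (Or.inr hu)
    · exact Or.inr hu

/-- A transitive `T`. -/
theorem Cfg.false_of_one (c : Cfg T M) (x : α) (hall : ∀ w, w ∈ orb T x) (h27 : 27 ≤ Fintype.card α) : False := by
  classical
  haveI : Fact (Nat.Prime 3) := ⟨Nat.prime_three⟩
  have hcard : (orb T x).card = Fintype.card α := by
    rw [Finset.eq_univ_iff_forall.2 hall, Finset.card_univ]
  obtain ⟨z, hzT, hz, hz3, hzm, -⟩ := exists_central c.pgroup c.maximal c.even x (by omega)
  have hfix : ∀ v, z v ≠ v := fun v => hzm v (hall v)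
  have hz' : ∀ v, z (z (z v)) = v := fun v => by
    have := Equiv.congr_fun hz3 v
    simpa [pow_succ, Perm.mul_apply] using this
  -- a subgroup of index three containing the stabiliser
  let St : Subgroup T := (MulAction.stabilizer (Perm α) x).subgroupOf T
  obtain ⟨m, hm⟩ := IsPGroup.iff_card.1 c.pgroup
  obtain ⟨k, hk⟩ := IsPGroup.iff_card.1 (c.pgroup.to_subgroup St)
  have hSt : St ≠ ⊤ := by
    intro h
    refine hfix x ?_
    have : (⟨z, hzT⟩ : T) ∈ St := h ▸ Subgroup.mem_top _
    exact this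
  have hkm : k + 1 ≤ m := by
    by_contra hlt
    refine hSt (Subgroup.eq_top_of_le_card _ ?_)
    rw [hm, hk]
    exact Nat.pow_le_pow_right (by norm_num) (by omega)
  obtain ⟨m', rfl⟩ : ∃ m', m = m' + 1 := ⟨m - 1, by omega⟩
  obtain ⟨K, hK, hStK⟩ := Sylow.exists_subgroup_card_pow_prime_le 3
    (show 3 ^ m' ∣ Nat.card T by rw [hm]; exact pow_dvd_pow 3 (Nat.le_succ _)) St hk (by omega)
  have hKidx : K.index = 3 := by
    have := Subgroup.card_mul_index K
    rw [hK, hm, pow_succ] at this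
    exact Nat.eq_of_mul_eq_mul_left (by positivity) this
  haveI : K.Normal := Subgroup.normal_of_index_eq_minFac_card (by
    rw [hKidx, hm, Nat.Prime.pow_minFac Nat.prime_three (by omega)])
  let B : α → Finset α := fun y => Finset.univ.filter fun v => ∃ g ∈ K, ((g : T) : Perm α) y = v
  have hB : ∀ {y v}, v ∈ B y ↔ ∃ g ∈ K, ((g : T) : Perm α) y = v := by simp [B]
  have hBeq : ∀ {y v}, v ∈ B y → B v = B y := by
    intro y v hv
    obtain ⟨g, hg, rfl⟩ := hB.1 hv
    ext u
    rw [hB, hB]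
    constructor
    · rintro ⟨g', hg', rfl⟩; exact ⟨g' * g, mul_mem hg' hg, rfl⟩
    · rintro ⟨g', hg', rfl⟩
      exact ⟨g' * g⁻¹, mul_mem hg' (inv_mem hg), by simp⟩
  have hBself : ∀ y, y ∈ B y := fun y => hB.2 ⟨1, one_mem _, rfl⟩
  have hBimg : ∀ (t : T) y, B ((t : Perm α) y) = (B y).image (t : Perm α) := by
    intro t y
    ext u
    rw [hB, Finset.mem_image]
    constructor
    · rintro ⟨g, hg, rfl⟩
      refine ⟨((t⁻¹ * g * t : T) : Perm α) y, hB.2 ⟨_, ?_, rfl⟩, by simp⟩
      have := (inferInstance : K.Normal).conj_mem g hg t⁻¹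
      rwa [inv_inv] at this
    · rintro ⟨v, hv, rfl⟩
      obtain ⟨g, hg, rfl⟩ := hB.1 hv
      exact ⟨t * g * t⁻¹, (inferInstance : K.Normal).conj_mem g hg t, by simp⟩
  have hout : ∀ t : T, t ∉ K → (t : Perm α) x ∉ B x := by
    intro t ht hmem
    obtain ⟨g, hg, e⟩ := hB.1 hmem
    refine ht ?_
    have h1 : g⁻¹ * t ∈ St := by
      show ((g⁻¹ * t : T) : Perm α) x = x
      rw [Subgroup.coe_mul, Subgroup.coe_inv, Perm.mul_apply, ← e]
      exact Equiv.symm_apply_apply _ x
    simpa using mul_mem hg (hStK h1)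
  obtain ⟨t, ht⟩ : ∃ t : T, t ∉ K := by
    by_contra h
    push Not at h
    rw [(Subgroup.eq_top_iff' K).2 h, Subgroup.index_top] at hKidx
    omega
  -- the three blocks
  have hcover : ∀ y, y ∈ B x ∨ y ∈ B ((t : Perm α) x) ∨ y ∈ B ((t : Perm α) ((t : Perm α) x)) := by
    intro y
    obtain ⟨g, hg, rfl⟩ := mem_orb.1 (hall y)
    haveI : IsCyclic (T ⧸ K) := isCyclic_of_prime_card (p := 3) (by rw [← Subgroup.index_eq_card, hKidx])
    have hto : (QuotientGroup.mk t : T ⧸ K) ≠ 1 := by rwa [Ne, QuotientGroup.eq_one_iff]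
    have hgen := mem_powers_of_prime_card (p := 3) (g' := (QuotientGroup.mk ⟨g, hg⟩ : T ⧸ K))
      (by rw [← Subgroup.index_eq_card, hKidx]) hto
    obtain ⟨i, hi⟩ := hgen
    have ho : orderOf (QuotientGroup.mk t : T ⧸ K) = 3 := by
      have hd := orderOf_dvd_natCard (QuotientGroup.mk t : T ⧸ K)
      rw [← Subgroup.index_eq_card, hKidx] at hd
      exact ((Nat.dvd_prime Nat.prime_three).1 hd).resolve_left fun h => hto (orderOf_eq_one_iff.1 h)
    have hi' : (QuotientGroup.mk t : T ⧸ K) ^ (i % 3) = QuotientGroup.mk ⟨g, hg⟩ := by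
      rw [← hi, ← ho, pow_mod_orderOf]
    have hk' : ∀ s : T, (QuotientGroup.mk s : T ⧸ K) = QuotientGroup.mk ⟨g, hg⟩ → g x ∈ B ((s : Perm α) x) := by
      intro s hs
      refine hB.2 ⟨⟨g, hg⟩ * s⁻¹, ?_, by simp⟩
      rw [← QuotientGroup.eq_one_iff, QuotientGroup.mk_mul, QuotientGroup.mk_inv, hs, mul_inv_cancel]
    have hlt : i % 3 < 3 := Nat.mod_lt _ (by norm_num)
    interval_cases h : i % 3
    · exact Or.inl (hk' 1 hi')
    · exact Or.inr (Or.inl (hk' t (by rw [← hi', pow_one])))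
    · refine Or.inr (Or.inr (hk' (t * t) ?_))
      rw [← hi', pow_two, QuotientGroup.mk_mul]
  have hsize : 9 ≤ (B x).card := by
    have h1 : (Finset.univ : Finset α) ⊆ B x ∪ (B ((t : Perm α) x) ∪ B ((t : Perm α) ((t : Perm α) x))) := fun y _ => by
      simpa [Finset.mem_union] using hcover y
    have h2 := (Finset.card_le_card h1).trans ((Finset.card_union_le _ _).trans
      (Nat.add_le_add_left (Finset.card_union_le _ _) _))
    have e1 : ∀ u, (B ((t : Perm α) u)).card = (B u).card := fun u => by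
      rw [hBimg t, Finset.card_image_of_injective _ (t : Perm α).injective]
    simp only [e1, Finset.card_univ] at h2
    omega
  -- the partition stabiliser
  let H : Subgroup (Perm α) := CfsgLib.Known.fibreStab B
  have hTH : T ≤ H := fun g hg y y' => by
    show B (g y) = B (g y') ↔ _
    rw [show g y = ((⟨g, hg⟩ : T) : Perm α) y from rfl, show g y' = ((⟨g, hg⟩ : T) : Perm α) y' from rfl,
      hBimg, hBimg, (Finset.image_injective g.injective).eq_iff]
  have hH : ¬ alternatingGroup α ≤ H := by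
    intro h
    obtain ⟨b, hb, hbx⟩ := Finset.exists_mem_ne (show 1 < (B x).card by omega) x
    have hc0 := hout t ht
    set d := (t : Perm α) x
    have hxd : x ≠ d := fun e => hc0 (e ▸ hBself x)
    have hdb : d ≠ b := fun e => hc0 (e ▸ hb)
    have h1 := (h (mem_alternatingGroup.2 (sign_cyc hxd hdb)) b x).2 (hBeq hb)
    rw [cyc_c, cyc_a hxd (Ne.symm hbx)] at h1
    exact hc0 (h1 ▸ hBself d)
  have hA : AltIn M (B x) := by
    intro g hg hs
    refine c.above H hTH hH g (fun y y' => ?_) hs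
    have hcl : ∀ y, B (g y) = B y := by
      intro y
      by_cases hy : g y = y
      · rw [hy]
      · rw [hBeq (hg (mem_support.2 fun e => hy (g.injective e))), hBeq (hg (mem_support.2 hy))]
    rw [hcl, hcl]
  have hcase : (∃ p ∈ B x, z p ∉ B x) ∨ ((∀ v, z v ∈ B x ↔ v ∈ B x) ∧ 7 ≤ (B x).card ∧ ∃ q, q ∉ B x) := by
    by_cases h : ∃ p ∈ B x, z p ∉ B x
    · exact Or.inl h
    · push Not at h
      refine Or.inr ⟨fun v => ⟨fun hv => ?_, h v⟩, by omega, _, hout t ht⟩
      rw [← hz' v]
      exact h _ (h _ hv)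
  obtain ⟨v, hv, hins⟩ := grow hA z hz' hfix (c.altIn_centralizer hfix hz) (by omega) hcase
  -- the other blocks
  obtain ⟨s, hsK, hvs, hsall⟩ : ∃ s : T, s ∉ K ∧ v ∈ B ((s : Perm α) x) ∧
      ∀ u, u ∈ B x ∨ u ∈ B ((s : Perm α) x) ∨ u ∈ B ((s : Perm α) ((s : Perm α) x)) := by
    rcases hcover v with h | h | h
    · exact absurd h hv
    · exact ⟨t, ht, h, hcover⟩
    · have ht2 : t * t ∉ K := fun e => by
        refine ht ?_
        have h3 := Subgroup.pow_index_mem K t
        rw [hKidx] at h3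
        have := mul_mem h3 (inv_mem e)
        rwa [show t ^ 3 * (t * t)⁻¹ = t by group] at this
      refine ⟨t * t, ht2, h, fun u => ?_⟩
      rcases hcover u with h' | h' | h'
      · exact Or.inl h'
      · refine Or.inr (Or.inr ?_)
        have h3 := Subgroup.pow_index_mem K t
        rw [hKidx] at h3
        have hmem : ((t : Perm α) x) ∈ B (((t * t : T) : Perm α) (((t * t : T) : Perm α) x)) := by
          refine hB.2 ⟨(t ^ 3)⁻¹, inv_mem h3, ?_⟩
          simp [pow_succ]
        rwa [← hBeq hmem]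
      · exact Or.inr (Or.inl h')
  set d := (s : Perm α) x with hd
  have hd' : B d = (B x).image (s : Perm α) := hBimg s x
  have hA2 : AltIn M (B d) := hd' ▸ hA.image (c.mem s.2)
  have hA2card : 3 ≤ (B d).card := by
    rw [hd', Finset.card_image_of_injective _ (s : Perm α).injective]; omega
  have hW : AltIn M (B x ∪ B d) :=
    (hins.union hA2 (by rw [Finset.card_insert_of_notMem hv]; omega) hA2card (Finset.mem_insert_self v _) hvs).mono
      (Finset.union_subset_union_left (Finset.subset_insert v _))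
  have hW3 : 3 ≤ (B x ∪ B d).card := hA2card.trans (Finset.card_le_card Finset.subset_union_right)
  have hsd : d ∈ (B x ∪ B d).image (s : Perm α) :=
    Finset.mem_image.2 ⟨x, Finset.mem_union_left _ (hBself x), rfl⟩
  refine c.not_altIn_univ ((hW.union (hW.image (c.mem s.2)) hW3
    (by rw [Finset.card_image_of_injective _ (s : Perm α).injective]; exact hW3)
    (Finset.mem_union_right _ (hBself d)) hsd).mono fun u _ => ?_)
  rw [Finset.image_union, ← hd', ← hBimg]
  rcases hsall u with h | h | h <;> simp [h]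

/-- **The degree.** -/
theorem Cfg.degree (c : Cfg T M) : Fintype.card α = 6 ∨ Fintype.card α = 9 ∨
    ∃ a : ℕ, 2 ≤ a ∧ Fintype.card α = 3 ^ a + 1 := by
  have five := c.five
  obtain ⟨x⟩ : Nonempty α := Fintype.card_pos_iff.1 (by omega)
  obtain ⟨a, ha⟩ := orb_card c.pgroup x
  by_cases hall : ∀ w, w ∈ orb T x
  · rw [Finset.eq_univ_iff_forall.2 hall, Finset.card_univ] at ha
    by_cases h3 : 3 ≤ a
    · exact (c.false_of_one x hall (ha ▸ le_trans (by norm_num) (Nat.pow_le_pow_right (by norm_num) h3))).elim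
    · interval_cases a <;> omega
  push Not at hall
  obtain ⟨y, hy⟩ := hall
  obtain ⟨b, hb⟩ := orb_card c.pgroup y
  by_cases h3 : ∃ w, w ∉ orb T x ∧ w ∉ orb T y
  · obtain ⟨w, hw, hw'⟩ := h3
    exact (c.false_of_three hy hw hw').elim
  push Not at h3
  have hall2 : ∀ w, w ∈ orb T x ∨ w ∈ orb T y := fun w => or_iff_not_imp_left.2 (h3 w)
  have hn : Fintype.card α = 3 ^ a + 3 ^ b := by
    rw [← ha, ← hb, ← Finset.card_union_of_disjoint (orb_disjoint hy), ← Finset.card_univ]
    congr 1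
    ext w; simp [hall2 w]
  rcases Nat.eq_zero_or_pos a with rfl | ha'
  · refine Or.inr (Or.inr ⟨b, ?_, by omega⟩)
    by_contra h
    interval_cases b <;> omega
  rcases Nat.eq_zero_or_pos b with rfl | hb'
  · refine Or.inr (Or.inr ⟨a, ?_, by omega⟩)
    by_contra h
    interval_cases a <;> omega
  rcases Nat.lt_or_ge a 2 with ha2 | ha2
  · rcases Nat.lt_or_ge b 2 with hb2 | hb2
    · obtain rfl : a = 1 := by omega
      obtain rfl : b = 1 := by omega
      exact Or.inl (by omega)
    · have hx : x ∉ orb T y := Finset.disjoint_left.1 (orb_disjoint hy) (self_mem_orb x)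
      refine (c.false_of_two hx (fun w => (hall2 w).symm) ?_ ?_).elim
      · rw [hb]; exact le_trans (by norm_num) (Nat.pow_le_pow_right (by norm_num) hb2)
      · rw [ha]; exact le_trans (by norm_num) (Nat.pow_le_pow_right (by norm_num) ha')
  · refine (c.false_of_two hy hall2 ?_ ?_).elim
    · rw [ha]; exact le_trans (by norm_num) (Nat.pow_le_pow_right (by norm_num) ha2)
    · rw [hb]; exact le_trans (by norm_num) (Nat.pow_le_pow_right (by norm_num) hb')

end CfsgLib.LocalEven.AltPMin
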