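/-
3-minimal groups with alternating generalized Fitting subgroup.
-/
import Cfsg.Agent.Lib.LocalEven.AltPMinimal.Degree
import Cfsg.Agent.Lib.InvolChar.AutA6
import Cfsg.Agent.Lib.Cores.Components
import Cfsg.Prelude.Def_LocalEven

set_option autoImplicit false

namespace CfsgLib.LocalEven.AltPMin

open Equiv Equiv.Perm CfsgLib.Known.AltAut

theorem eq_one_of_commutes {n : ℕ} (hn : 5 ≤ n) (π : Perm (Fin n))
    (h : ∀ g ∈ alternatingGroup (Fin n), π * g * π⁻¹ = g) : π = 1 := by
  refine Equiv.ext fun p => ?_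
  by_contra hp
  change π p ≠ p at hp
  obtain ⟨r, hr⟩ := exists_notMem_small (s := {p, π p})
    (lt_of_le_of_lt Finset.card_le_two (show 2 < Fintype.card (Fin n) by rw [Fintype.card_fin]; omega))
  obtain ⟨w, hw⟩ := exists_notMem_small (s := {p, π p, r})
    (lt_of_le_of_lt Finset.card_le_three (show 3 < Fintype.card (Fin n) by rw [Fintype.card_fin]; omega))
  simp only [Finset.mem_insert, Finset.mem_singleton, not_or] at hr hw
  have hpr : p ≠ r := Ne.symm hr.1
  have hpw : p ≠ w := Ne.symm hw.1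
  have hrw : r ≠ w := Ne.symm hw.2.2
  have e := h _ (mem_alternatingGroup.2 (sign_cyc (c := w) hpr hrw))
  rw [cyc_conj] at e
  have e' := Equiv.congr_fun e (π p)
  rw [cyc_a (fun h => hpr (π.injective h)) (fun h => hpw (π.injective h)),
    cyc_other hp (Ne.symm hr.2) (Ne.symm hw.2.1)] at e'
  exact hpr (π.injective e').symm

variable {X : Type*} [Group X] [Finite X]

theorem exists_perm {n : ℕ} (hn : 5 ≤ n) {F : Subgroup X} [F.Normal] (e : F ≃* alternatingGroup (Fin n))
    (T : Sylow 3 X) (x : X) (hx : x ∈ (T : Subgroup X)) :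
    ∃ π : Perm (Fin n), ∀ f : F,
      (e (MulAut.conjNormal x f) : Perm (Fin n)) = π * (e f : Perm (Fin n)) * π⁻¹ := by
  haveI : Fact (Nat.Prime 3) := ⟨Nat.prime_three⟩
  set φ : MulAut (alternatingGroup (Fin n)) := e.symm.trans ((MulAut.conjNormal x).trans e) with hφ
  have hφe : ∀ f : F, φ (e f) = e (MulAut.conjNormal x f) := fun f => by simp [hφ]
  suffices h : ∃ π : Perm (Fin n), ∀ g, (φ g : Perm (Fin n)) = π * (g : Perm (Fin n)) * π⁻¹ by
    obtain ⟨π, hπ⟩ := h
    exact ⟨π, fun f => by rw [← hφe, hπ]⟩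
  by_cases h6 : n = 6
  · subst h6
    set J : Subgroup (T : Subgroup X) := F.subgroupOf (T : Subgroup X) with hJ
    haveI : J.Normal := inferInstance
    have hne : J ≠ ⊥ := by
      obtain ⟨c, hc⟩ := exists_prime_orderOf_dvd_card' (G := F) 3 (by
        rw [Nat.card_congr e.toEquiv]
        have hh := two_mul_card_alternatingGroup (α := Fin 6)
        rw [← Nat.card_eq_fintype_card, Fintype.card_perm, Fintype.card_fin,
          show Nat.factorial 6 = 720 from rfl] at hh
        omega)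
      obtain ⟨Q, hQ⟩ := (IsPGroup.of_card (n := 1) (G := Subgroup.zpowers (c : X)) (p := 3)
        (by rw [Nat.card_zpowers, Subgroup.orderOf_coe, hc, pow_one])).exists_le_sylow
      obtain ⟨g, hg⟩ := MulAction.exists_smul_eq X Q T
      intro hbot
      have hmem : g * (c : X) * g⁻¹ ∈ (T : Subgroup X) := by
        rw [← hg]
        exact ⟨c, hQ (Subgroup.mem_zpowers _), rfl⟩
      have hF : g * (c : X) * g⁻¹ ∈ F := (inferInstance : F.Normal).conj_mem _ c.2 g
      have h1 : (⟨_, hmem⟩ : (T : Subgroup X)) ∈ J := hF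
      rw [hbot, Subgroup.mem_bot] at h1
      have h2 : g * (c : X) * g⁻¹ = 1 := congrArg Subtype.val h1
      have h3 : (c : X) = 1 := conj_eq_one_iff.1 h2
      rw [← Subgroup.orderOf_coe, h3, orderOf_one] at hc
      omega
    obtain ⟨⟨v, hv⟩, hv1⟩ := Subgroup.ne_bot_iff_exists_ne_one.1
      (CfsgLib.PGroup.inf_center_ne_bot T.isPGroup' J hne)
    have hv1' : v ≠ 1 := fun h => hv1 (Subtype.ext h)
    obtain ⟨k, hk⟩ := IsPGroup.iff_orderOf.1 T.isPGroup' v
    have hk0 : k ≠ 0 := fun h => hv1' (orderOf_eq_one_iff.1 (by rw [hk, h, pow_zero]))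
    have hw3 : orderOf (v ^ 3 ^ (k - 1)) = 3 := by
      rw [orderOf_pow' _ (by positivity), hk, Nat.gcd_eq_right (pow_dvd_pow 3 (Nat.sub_le k 1)),
        Nat.pow_div (Nat.sub_le k 1) (by norm_num), show k - (k - 1) = 1 by omega, pow_one]
    obtain ⟨hwJ, hwc⟩ := pow_mem hv (3 ^ (k - 1))
    set w := v ^ 3 ^ (k - 1)
    have ho : orderOf (e ⟨(w : X), hwJ⟩) = 3 := by
      rw [MulEquiv.orderOf_eq, ← Subgroup.orderOf_coe]
      show orderOf (w : X) = 3
      rw [Subgroup.orderOf_coe, hw3]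
    refine CfsgLib.InvolChar.A6.aut_is_conj φ _ ho ?_
    rw [hφe]
    congr 1
    refine Subtype.ext ?_
    rw [MulAut.conjNormal_apply]
    have hcom : x * (w : X) = (w : X) * x := congrArg Subtype.val (Subgroup.mem_center_iff.1 hwc ⟨x, hx⟩)
    rw [hcom, mul_inv_cancel_right]
  · obtain ⟨π, hπ⟩ := (bijective_conjNormal (show 4 ≤ n by omega) h6).2 φ
    exact ⟨π, fun g => by rw [← hπ]; rfl⟩

theorem sylow_le {n : ℕ} (hn : 5 ≤ n) {F : Subgroup X} [F.Normal]
    (hC : Subgroup.centralizer (F : Set X) ≤ F) (e : F ≃* alternatingGroup (Fin n)) (T : Sylow 3 X) :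
    (T : Subgroup X) ≤ F := by
  intro x hx
  obtain ⟨π, hπ⟩ := exists_perm hn e T x hx
  have hpow : ∀ (j : ℕ) (f : F), (e (MulAut.conjNormal (x ^ j) f) : Perm (Fin n)) =
      π ^ j * (e f : Perm (Fin n)) * (π ^ j)⁻¹ := by
    intro j
    induction j with
    | zero => intro f; simp
    | succ k ih =>
      intro f
      rw [pow_succ', map_mul, MulAut.mul_apply, hπ, ih, pow_succ', mul_inv_rev]
      simp [mul_assoc]
  obtain ⟨k, hk⟩ := T.isPGroup' ⟨x, hx⟩
  have hk' : x ^ 3 ^ k = 1 := congrArg Subtype.val hk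
  have hπk : π ^ 3 ^ k = 1 := eq_one_of_commutes hn _ fun g hg => by
    have := hpow (3 ^ k) (e.symm ⟨g, hg⟩)
    rw [hk', map_one, MulAut.one_apply, MulEquiv.apply_symm_apply] at this
    exact this.symm
  have hs : sign π = 1 := by
    rcases Int.units_eq_one_or (sign π) with h | h
    · exact h
    · have := congrArg sign hπk
      rw [map_pow, map_one, h, Odd.neg_one_pow ((show Odd 3 by decide).pow)] at this
      exact absurd this (by decide)
  set y : F := e.symm ⟨π, mem_alternatingGroup.2 hs⟩ with hy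
  have hcent : (y : X)⁻¹ * x ∈ Subgroup.centralizer (F : Set X) := by
    intro f hf
    have h1 : MulAut.conjNormal x (⟨f, hf⟩ : F) = y * ⟨f, hf⟩ * y⁻¹ := by
      refine e.injective (Subtype.ext ?_)
      rw [hπ, map_mul, map_mul, map_inv, hy, MulEquiv.apply_symm_apply]
      rfl
    have h2 : x * f * x⁻¹ = (y : X) * f * (y : X)⁻¹ := by
      have := congrArg Subtype.val h1
      rwa [MulAut.conjNormal_apply] at this
    have h3 : x * f = (y : X) * f * (y : X)⁻¹ * x := by rw [← h2, inv_mul_cancel_right]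
    show f * ((y : X)⁻¹ * x) = (y : X)⁻¹ * x * f
    rw [mul_assoc _ x f, h3]
    group
  simpa using mul_mem y.2 (hC hcent)

/-- **3-minimal groups with alternating generalized Fitting subgroup.** -/
theorem main {X : Type*} [Group X] [Finite X] (hX : Cfsg.IsPMinimal 3 X) (n : ℕ) (hn : 5 ≤ n)
    (hF : Nonempty (↥(Cfsg.generalizedFittingSubgroup X) ≃* ↥(alternatingGroup (Fin n)))) :
    Cfsg.generalizedFittingSubgroup X = ⊤ ∧ (n = 6 ∨ n = 9 ∨ ∃ a : ℕ, 2 ≤ a ∧ n = 3 ^ a + 1) := by
  classical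
  haveI : Fact (Nat.Prime 3) := ⟨Nat.prime_three⟩
  obtain ⟨e⟩ := hF
  haveI := CfsgLib.Cores.generalizedFittingSubgroup_normal (G := X)
  set F := Cfsg.generalizedFittingSubgroup X
  let T : Sylow 3 X := default
  have hTF := sylow_le hn CfsgLib.Cores.centralizer_generalizedFittingSubgroup_le e T
  obtain ⟨hTn, M, ⟨hM, hTM⟩, huniq⟩ := hX T
  have habove : ∀ H : Subgroup X, (T : Subgroup X) ≤ H → H ≠ ⊤ → H ≤ M := by
    intro H hTH hH
    obtain ⟨C, hC, hHC⟩ := (eq_top_or_exists_le_coatom H).resolve_left hH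
    exact huniq C ⟨hC, hTH.trans hHC⟩ ▸ hHC
  have hFtop : F = ⊤ := by
    by_contra hne
    refine hM.1 (top_le_iff.1 ?_)
    rw [← Sylow.normalizer_sup_eq_top' T hTF]
    exact sup_le (habove _ Subgroup.le_normalizer fun h => hTn (Subgroup.normalizer_eq_top_iff.1 h))
      (habove F hTF hne)
  refine ⟨hFtop, ?_⟩
  let f : X →* Perm (Fin n) := (alternatingGroup (Fin n)).subtype.comp
    (e.toMonoidHom.comp ((MonoidHom.id X).codRestrict F fun x => hFtop ▸ Subgroup.mem_top x))
  have hf : Function.Injective f := fun a b h => congrArg Subtype.val (e.injective (Subtype.ext h))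
  have hrange : ∀ g ∈ alternatingGroup (Fin n), ∃ x, f x = g := fun g hg =>
    ⟨(e.symm ⟨g, hg⟩ : F), congrArg Subtype.val (e.apply_symm_apply ⟨g, hg⟩)⟩
  have hsign : ∀ x, sign (f x) = 1 := fun x => (e _).2
  have c : Cfg ((T : Subgroup X).map f) (M.map f) := by
    refine ⟨by rw [Fintype.card_fin]; exact hn, T.isPGroup'.map f, ?_, ?_, ?_, ?_⟩
    · rintro _ ⟨x, -, rfl⟩; exact hsign x
    · intro R hev hR hle
      have h1 : R.comap f = (T : Subgroup X) := T.is_maximal' (hR.comap_of_injective f hf)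
        (Subgroup.map_le_iff_le_comap.1 hle)
      refine le_antisymm (fun g hg => ?_) hle
      obtain ⟨x, rfl⟩ := hrange g (mem_alternatingGroup.2 (hev g hg))
      exact ⟨x, h1 ▸ hg, rfl⟩
    · intro h
      refine hM.1 (top_le_iff.1 fun x _ => ?_)
      obtain ⟨y, hy, e'⟩ := h (mem_alternatingGroup.2 (hsign x))
      exact hf e' ▸ hy
    · intro H hTH hH g hg hs
      obtain ⟨x, rfl⟩ := hrange g (mem_alternatingGroup.2 hs)
      refine ⟨x, habove (H.comap f) (Subgroup.map_le_iff_le_comap.1 hTH) (fun h => hH fun g hg' => ?_) hg, rfl⟩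
      obtain ⟨y, rfl⟩ := hrange g hg'
      exact (h ▸ Subgroup.mem_top y : y ∈ H.comap f)
  simpa using c.degree

end CfsgLib.LocalEven.AltPMin
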